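import Cfsg.Agent.PSLThreeSpectrum.Upper

/-!
Element orders of the three-dimensional projective special linear groups: the examples.
-/

set_option autoImplicit false

namespace Cfsg.Agent.PSLThreeSpectrum

open Matrix Module

variable {F : Type*} [Field F] [Fintype F]

omit [Fintype F] in
/-- Endomorphisms of determinant one of a three-dimensional space give elements of `SL₃`. -/
theorem exists_of_endo {V : Type*} [AddCommGroup V] [Module F V] [FiniteDimensional F V] (hV : finrank F V = 3)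
    (f : V →ₗ[F] V) (hdet : LinearMap.det f = 1) :
    ∃ g : Matrix.SpecialLinearGroup (Fin 3) F, ∀ (j : ℕ) (c : F),
      mat g ^ j = Matrix.scalar (Fin 3) c ↔ f ^ j = c • (1 : Module.End F V) := by
  classical
  set b := (Module.finBasis F V).reindex (finCongr hV)
  set M := LinearMap.toMatrix b b f with hM
  have hdetM : M.det = 1 := by rw [hM, LinearMap.det_toMatrix, hdet]
  refine ⟨⟨M, hdetM⟩, fun j c => ?_⟩
  show LinearMap.toMatrixAlgEquiv b f ^ j = Matrix.scalar (Fin 3) c ↔ _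
  rw [← map_pow, show Matrix.scalar (Fin 3) c = LinearMap.toMatrixAlgEquiv b (c • (1 : Module.End F V)) by
    rw [map_smul, map_one, Matrix.scalar_apply, Matrix.smul_one_eq_diagonal]]
  exact (LinearMap.toMatrixAlgEquiv b).injective.eq_iff

omit [Fintype F] in
/-- An order criterion. -/
theorem orderOf_eq_of (g : Matrix.SpecialLinearGroup (Fin 3) F) (N : ℕ)
    (h1 : ∃ c, mat g ^ N = Matrix.scalar (Fin 3) c)
    (h2 : ∀ j c, mat g ^ j = Matrix.scalar (Fin 3) c → N ∣ j) : orderOf (cls g) = N := by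
  refine Nat.dvd_antisymm ?_ ?_
  · obtain ⟨c, hc⟩ := h1
    exact orderOf_cls_dvd g c hc
  · have := pow_orderOf_eq_one (cls g)
    rw [← map_pow, cls_eq_one_iff, mat_pow] at this
    obtain ⟨c, hc⟩ := this
    exact h2 _ c hc

/-- An element of the units of a finite field of any order dividing their number. -/
theorem exists_order {K : Type*} [Field K] [Fintype K] {N : ℕ} (hN : N ∣ Fintype.card K - 1) :
    ∃ a : Kˣ, orderOf a = N := by
  classical
  obtain ⟨g, hg⟩ := IsCyclic.exists_generator (α := Kˣ)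
  have ho : orderOf g = Fintype.card K - 1 := by
    rw [orderOf_eq_card_of_forall_mem_zpowers hg, Nat.card_eq_fintype_card, Fintype.card_units]
  obtain ⟨r, hr⟩ := hN
  have h1 := Fintype.one_lt_card (α := K)
  have hr0 : r ≠ 0 := fun h => by simp [h] at hr; omega
  refine ⟨g ^ r, ?_⟩
  rw [orderOf_pow' g hr0, ho, hr, Nat.gcd_mul_left_left]
  exact Nat.mul_div_cancel _ (Nat.pos_of_ne_zero hr0)

theorem dvd_of_gcd {N d e j : ℕ} (hd : d ∣ N) (hd0 : 0 < d) (he : Nat.gcd e N ∣ d) (h : N ∣ e * j) : N / d ∣ j := by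
  have h1 : N ∣ Nat.gcd (e * j) (N * j) := Nat.dvd_gcd h (dvd_mul_right _ _)
  rw [Nat.gcd_mul_right] at h1
  obtain ⟨r, hr⟩ := hd
  rw [hr, Nat.mul_div_cancel_left _ hd0]
  have h2 := h1.trans (Nat.mul_dvd_mul_right he j)
  rw [hr] at h2
  exact Nat.dvd_of_mul_dvd_mul_left hd0 h2

/-- The order `q − 1`. -/
theorem exists_split : ∃ x : Matrix.ProjectiveSpecialLinearGroup (Fin 3) F, orderOf x = Fintype.card F - 1 := by
  obtain ⟨e, he⟩ := exists_order (K := F) dvd_rfl
  set d : Fin 3 → F := ![(e : F), ((e⁻¹ : Fˣ) : F), 1] with hd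
  have he1 : e ^ (Fintype.card F - 1) = 1 := by rw [← he, pow_orderOf_eq_one]
  let D : Matrix.SpecialLinearGroup (Fin 3) F := ⟨Matrix.diagonal d, by
    rw [Matrix.det_diagonal, Fin.prod_univ_three]
    simp [hd]⟩
  refine ⟨_, orderOf_eq_of D _ ⟨1, ?_⟩ ?_⟩
  · show Matrix.diagonal d ^ (Fintype.card F - 1) = _
    rw [Matrix.diagonal_pow, map_one, ← Matrix.diagonal_one]
    congr 1
    funext i
    fin_cases i <;> simp [hd, ← Units.val_pow_eq_pow_val, he1]
  · intro j c h
    change Matrix.diagonal d ^ j = _ at h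
    rw [Matrix.diagonal_pow, Matrix.scalar_apply] at h
    have h0 := congrFun (congrFun h 0) 0
    have h2 := congrFun (congrFun h 2) 2
    simp [hd] at h0 h2
    rw [← he, orderOf_dvd_iff_pow_eq_one]
    exact Units.ext (by rw [Units.val_pow_eq_pow_val, Units.val_one, h0, h2])

/-- The order `p(q − 1)/d`. -/
theorem exists_mixed (p : ℕ) [Fact p.Prime] [CharP F p] :
    ∃ x : Matrix.ProjectiveSpecialLinearGroup (Fin 3) F,
      orderOf x = p * (Fintype.card F - 1) / Nat.gcd 3 (Fintype.card F - 1) := by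
  set q := Fintype.card F with hq
  set d := Nat.gcd 3 (q - 1) with hd
  have hd3 : d ∣ 3 := Nat.gcd_dvd_left _ _
  have hdq : d ∣ q - 1 := Nat.gcd_dvd_right _ _
  have hd0 : 0 < d := Nat.gcd_pos_of_pos_left _ (by norm_num)
  have hq1 : 1 ≤ q := Fintype.card_pos
  obtain ⟨a, ha⟩ := exists_order (K := F) dvd_rfl
  set A : F := (a : F) with hA
  have haF : A ≠ 0 := a.ne_zero
  set b : F := (A * A)⁻¹ with hb
  let g : Matrix.SpecialLinearGroup (Fin 3) F := ⟨!![A, 0, A; 0, b, 0; 0, 0, A], by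
    rw [Matrix.det_fin_three]; simp [hb]; field_simp⟩
  have hMpow : ∀ j : ℕ, mat g ^ j = !![A ^ j, 0, (j : F) * A ^ j; 0, b ^ j, 0; 0, 0, A ^ j] := by
    intro j
    induction j with
    | zero => ext r s; fin_cases r <;> fin_cases s <;> simp
    | succ j ih =>
      rw [pow_succ, ih]
      ext r s
      fin_cases r <;> fin_cases s <;> simp [g, mat, Matrix.mul_apply, Fin.sum_univ_three, pow_succ] <;> ring
  have hpow : ∀ (j : ℕ) (z : F), mat g ^ j = Matrix.scalar (Fin 3) z ↔ A ^ j = z ∧ b ^ j = z ∧ (j : F) = 0 := by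
    intro j z
    rw [hMpow, Matrix.scalar_apply]
    constructor
    · intro h
      have h0 := congrFun (congrFun h 0) 0
      have h1 := congrFun (congrFun h 1) 1
      have h2 := congrFun (congrFun h 0) 2
      simp at h0 h1 h2
      refine ⟨h0, h1, ?_⟩
      rcases h2 with h2 | h2
      · exact h2
      · exact absurd h2.1 haF
    · rintro ⟨h0, h1, h2⟩
      ext r s
      fin_cases r <;> fin_cases s <;> simp [h0, h1, h2]
  set k := (q - 1) / d
  rw [Nat.mul_div_assoc p hdq]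
  refine ⟨_, orderOf_eq_of g _ ⟨A ^ (p * k), (hpow _ _).2 ⟨rfl, ?_, ?_⟩⟩ ?_⟩
  · have hz : (A ^ (p * k)) ^ d = 1 := by
      rw [← pow_mul, mul_assoc, Nat.div_mul_cancel hdq, mul_comm, pow_mul, hA, ← Units.val_pow_eq_pow_val, ← ha,
        pow_orderOf_eq_one, Units.val_one, one_pow]
    obtain ⟨h3, -⟩ := cube_root hq1 hd3 hdq hz
    rw [hb, inv_pow, mul_pow]
    rw [pow_three] at h3
    exact inv_eq_of_mul_eq_one_right (by linear_combination h3)
  · rw [Nat.cast_mul, CharP.cast_eq_zero, zero_mul]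
  · intro j z h
    obtain ⟨h0, h1, h2⟩ := (hpow j z).1 h
    have hpj : p ∣ j := (CharP.cast_eq_zero_iff F p j).1 h2
    have hkj : k ∣ j := by
      refine dvd_of_gcd hdq hd0 (e := 3) dvd_rfl ?_
      rw [← ha, orderOf_dvd_iff_pow_eq_one]
      refine Units.ext ?_
      rw [Units.val_pow_eq_pow_val, Units.val_one, ← hA]
      rw [hb, inv_pow, mul_pow, ← h0, inv_eq_one_div, div_eq_iff (mul_ne_zero (pow_ne_zero _ haF) (pow_ne_zero _ haF))]
        at h1
      rw [mul_comm 3 j, pow_mul, pow_three]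
      exact h1.symm
    refine Nat.Coprime.mul_dvd_of_dvd_of_dvd ?_ hpj hkj
    refine Nat.Coprime.coprime_dvd_right (Nat.div_dvd_of_dvd hdq) ?_
    obtain ⟨e, hpr, hcard⟩ := FiniteField.card F p
    refine (Nat.Prime.coprime_iff_not_dvd hpr).2 fun hdiv => ?_
    have hpq : p ∣ q := by rw [hq, hcard]; exact dvd_pow_self p e.ne_zero
    rw [show q = q - 1 + 1 by omega] at hpq
    exact hpr.one_lt.ne' (Nat.dvd_one.1 ((Nat.dvd_add_right hdiv).1 hpq))

/-- The order four in characteristic two. -/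
theorem exists_four (h2 : (2 : F) = 0) :
    ∃ x : Matrix.ProjectiveSpecialLinearGroup (Fin 3) F, orderOf x = 4 := by
  let g : Matrix.SpecialLinearGroup (Fin 3) F := ⟨!![1, 1, 0; 0, 1, 1; 0, 0, 1], by
    rw [Matrix.det_fin_three]; simp⟩
  have hsq : mat g ^ 2 = !![1, 0, 1; 0, 1, 0; 0, 0, 1] := by
    rw [sq]
    ext r s
    fin_cases r <;> fin_cases s <;> simp [g, mat, Matrix.mul_apply, Fin.sum_univ_three] <;> linear_combination h2
  refine ⟨cls g, orderOf_eq_prime_pow (p := 2) (n := 1) ?_ ?_⟩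
  · rw [pow_one, ← map_pow, cls_eq_one_iff]
    rintro ⟨c, hc⟩
    rw [mat_pow, hsq] at hc
    have := congrFun (congrFun hc 0) 2
    simp at this
  · rw [← map_pow, cls_eq_one_iff]
    refine ⟨1, ?_⟩
    rw [mat_pow, show 2 ^ (1 + 1) = 2 * 2 from rfl, pow_mul, hsq, sq, map_one]
    ext r s
    fin_cases r <;> fin_cases s <;> simp [Matrix.mul_apply, Fin.sum_univ_three] <;> linear_combination h2

/-- The order `(q² − 1)/d`. -/
theorem exists_torus : ∃ x : Matrix.ProjectiveSpecialLinearGroup (Fin 3) F,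
    orderOf x = (Fintype.card F ^ 2 - 1) / Nat.gcd 3 (Fintype.card F - 1) := by
  classical
  obtain ⟨p, hp⟩ := CharP.exists F
  obtain ⟨e, hpr, hcard⟩ := FiniteField.card F p
  haveI : Fact p.Prime := ⟨hpr⟩
  let K := FiniteField.Extension F p 2
  haveI := Fintype.ofFinite K
  set q := Fintype.card F with hq
  have hq2 : 2 ≤ q := Fintype.one_lt_card
  have hq1 : 1 ≤ q := by omega
  set d := Nat.gcd 3 (q - 1) with hd
  have hd3 : d ∣ 3 := Nat.gcd_dvd_left _ _
  have hdq : d ∣ q - 1 := Nat.gcd_dvd_right _ _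
  have hd0 : 0 < d := Nat.gcd_pos_of_pos_left _ (by norm_num)
  have hdm : d ∣ q ^ 2 - 1 := hdq.trans ⟨q + 1, by rw [mul_comm]; simpa using Nat.sq_sub_sq q 1⟩
  have hK : Fintype.card K = q ^ 2 := by
    rw [← Nat.card_eq_fintype_card, FiniteField.natCard_extension, Nat.card_eq_fintype_card]
  have hfr : finrank F K = 2 := FiniteField.finrank_extension F p 2
  obtain ⟨α, hα⟩ := exists_order (K := K) dvd_rfl
  rw [hK] at hα
  set A : K := (α : K) with hA
  have hA0 : A ≠ 0 := α.ne_zero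
  set n : F := Algebra.norm F A with hn
  have hn0 : n ≠ 0 := Algebra.norm_ne_zero_iff.2 hA0
  set ι := algebraMap F K
  have hnA : ι n = A ^ (q + 1) := by
    rw [hn, FiniteField.algebraMap_norm_eq_pow_sum, hfr, Nat.card_eq_fintype_card]
    simp [Finset.sum_range_succ, add_comm, hq]
  let f : K × F →ₗ[F] K × F := (LinearMap.mulLeft F A).prodMap (n⁻¹ • (LinearMap.id : F →ₗ[F] F))
  obtain ⟨g, hg⟩ := exists_of_endo (by rw [Module.finrank_prod, hfr, Module.finrank_self]) f (by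
    show LinearMap.det ((LinearMap.mulLeft F A).prodMap (n⁻¹ • (LinearMap.id : F →ₗ[F] F))) = 1
    rw [LinearMap.det_prodMap, LinearMap.det_smul, LinearMap.det_id, Module.finrank_self, pow_one, mul_one,
      show LinearMap.mulLeft F A = Algebra.lmul F K A from rfl, ← Algebra.norm_apply, ← hn, mul_inv_cancel₀ hn0])
  have hfx : ∀ (j : ℕ) (x : K × F), (f ^ j) x = (A ^ j * x.1, (n⁻¹) ^ j * x.2) := by
    intro j
    induction j with
    | zero => intro x; simp
    | succ j ih =>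
      intro x
      rw [pow_succ', Module.End.mul_apply, ih]
      simp [f, pow_succ', mul_assoc]
  have hpow : ∀ (j : ℕ) (z : F), f ^ j = z • (1 : Module.End F (K × F)) ↔ A ^ j = ι z ∧ (n⁻¹) ^ j = z := by
    intro j z
    constructor
    · intro h
      have := LinearMap.congr_fun h (1, 1)
      rw [hfx] at this
      simpa [Algebra.smul_def, Prod.ext_iff] using this
    · rintro ⟨h1, h2⟩
      refine LinearMap.ext fun x => ?_
      rw [hfx, h1, h2]
      refine Prod.ext ?_ ?_ <;> simp [Algebra.smul_def, ι]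
  set k := (q ^ 2 - 1) / d
  have hAN : A ^ (q ^ 2 - 1) = 1 := by
    rw [hA, ← hα, ← Units.val_pow_eq_pow_val, pow_orderOf_eq_one, Units.val_one]
  have hz : (A ^ k) ^ d = 1 := by rw [← pow_mul, Nat.div_mul_cancel hdm, hAN]
  obtain ⟨h3, hzq⟩ := cube_root hq1 hd3 hdq hz
  obtain ⟨w, hw⟩ : ∃ w : F, ι w = A ^ k := mem_range_of_pow_card hzq
  refine ⟨_, orderOf_eq_of g k ⟨w, (hg _ _).2 ((hpow _ _).2 ⟨hw.symm, ι.injective ?_⟩)⟩ ?_⟩
  · rw [map_pow, map_inv₀, hnA, inv_pow, ← pow_mul, mul_comm, pow_mul, pow_succ, hzq, hw]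
    rw [pow_three] at h3
    exact inv_eq_of_mul_eq_one_right (by linear_combination h3)
  · intro j z h
    obtain ⟨hj, hj'⟩ := (hpow j z).1 ((hg j z).1 h)
    refine dvd_of_gcd hdm hd0 (e := q + 2) ?_ ?_
    · have h1 := Nat.gcd_dvd_left (q + 2) (q ^ 2 - 1)
      have h3' : Nat.gcd (q + 2) (q ^ 2 - 1) ∣ 3 := by
        obtain ⟨r, hr⟩ : ∃ r, q = r + 2 := ⟨q - 2, by omega⟩
        have e1 : q ^ 2 - 1 = r * (q + 2) + 3 := by
          rw [hr, show (r + 2) ^ 2 = r * (r + 2 + 2) + 3 + 1 by ring, Nat.add_sub_cancel]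
        have h2 := Nat.gcd_dvd_right (q + 2) (q ^ 2 - 1)
        generalize Nat.gcd (q + 2) (q ^ 2 - 1) = G at h1 h2 ⊢
        rw [e1] at h2
        exact (Nat.dvd_add_right (Dvd.dvd.mul_left h1 r)).1 h2
      refine Nat.dvd_gcd h3' ?_
      have := Nat.dvd_sub h1 h3'
      rwa [show q + 2 - 3 = q - 1 by omega] at this
    rw [← hα, orderOf_dvd_iff_pow_eq_one]
    refine Units.ext ?_
    rw [Units.val_pow_eq_pow_val, Units.val_one, ← hA, show q + 2 = q + 1 + 1 by omega, add_mul, one_mul, pow_add,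
      pow_mul, ← hnA, hj, ← map_pow, ← map_mul, ← hj', ← mul_pow, mul_inv_cancel₀ hn0, one_pow, map_one]

/-- The order `(q² + q + 1)/d`. -/
theorem exists_singer : ∃ x : Matrix.ProjectiveSpecialLinearGroup (Fin 3) F,
    orderOf x = (Fintype.card F ^ 2 + Fintype.card F + 1) / Nat.gcd 3 (Fintype.card F - 1) := by
  classical
  obtain ⟨p, hp⟩ := CharP.exists F
  obtain ⟨e, hpr, hcard⟩ := FiniteField.card F p
  haveI : Fact p.Prime := ⟨hpr⟩
  let K := FiniteField.Extension F p 3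
  haveI := Fintype.ofFinite K
  set q := Fintype.card F with hq
  have hq1 : 1 ≤ q := Fintype.card_pos
  set d := Nat.gcd 3 (q - 1) with hd
  have hd3 : d ∣ 3 := Nat.gcd_dvd_left _ _
  have hdq : d ∣ q - 1 := Nat.gcd_dvd_right _ _
  have hd0 : 0 < d := Nat.gcd_pos_of_pos_left _ (by norm_num)
  obtain ⟨r, hr⟩ : ∃ r, q = r + 1 := ⟨q - 1, by omega⟩
  have hN3 : q ^ 2 + q + 1 = (r + 3) * (q - 1) + 3 := by rw [hr, Nat.add_sub_cancel]; ring
  have hds : d ∣ q ^ 2 + q + 1 := by rw [hN3]; exact dvd_add (dvd_mul_of_dvd_right hdq _) hd3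
  have hK : Fintype.card K = q ^ 3 := by
    rw [← Nat.card_eq_fintype_card, FiniteField.natCard_extension, Nat.card_eq_fintype_card]
  have hfr : finrank F K = 3 := FiniteField.finrank_extension F p 3
  obtain ⟨α, hα⟩ := exists_order (K := K) (N := q ^ 2 + q + 1) ⟨r, by
    rw [hK, hr]
    exact Nat.sub_eq_of_eq_add (by ring)⟩
  set A : K := (α : K) with hA
  have hA0 : A ≠ 0 := α.ne_zero
  have hAN : A ^ (q ^ 2 + q + 1) = 1 := by
    rw [hA, ← hα, ← Units.val_pow_eq_pow_val, pow_orderOf_eq_one, Units.val_one]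
  set ι := algebraMap F K
  obtain ⟨g, hg⟩ := exists_of_endo hfr (LinearMap.mulLeft F A) (by
    rw [show LinearMap.mulLeft F A = Algebra.lmul F K A from rfl, ← Algebra.norm_apply]
    refine ι.injective ?_
    rw [FiniteField.algebraMap_norm_eq_pow_sum, hfr, Nat.card_eq_fintype_card, map_one]
    rw [show ∑ i ∈ Finset.range 3, Fintype.card F ^ i = q ^ 2 + q + 1 by simp [Finset.sum_range_succ, hq]; ring]
    exact hAN)
  have hpow : ∀ (j : ℕ) (z : F), LinearMap.mulLeft F A ^ j = z • (1 : Module.End F K) ↔ A ^ j = ι z := by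
    intro j z
    rw [LinearMap.pow_mulLeft]
    constructor
    · intro h
      have := LinearMap.congr_fun h 1
      simpa [Algebra.smul_def] using this
    · intro h
      ext x
      simp [h, Algebra.smul_def, ι]
  set k := (q ^ 2 + q + 1) / d
  have hz : (A ^ k) ^ d = 1 := by rw [← pow_mul, Nat.div_mul_cancel hds, hAN]
  obtain ⟨w, hw⟩ : ∃ w : F, ι w = A ^ k := mem_range_of_pow_card (cube_root hq1 hd3 hdq hz).2
  refine ⟨_, orderOf_eq_of g k ⟨w, (hg _ _).2 ((hpow _ _).2 hw.symm)⟩ ?_⟩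
  intro j z h
  have hj := (hpow j z).1 ((hg j z).1 h)
  refine dvd_of_gcd hds hd0 (e := q - 1) ?_ ?_
  · have h1 := Nat.gcd_dvd_left (q - 1) (q ^ 2 + q + 1)
    have h2 := Nat.gcd_dvd_right (q - 1) (q ^ 2 + q + 1)
    refine Nat.dvd_gcd ?_ h1
    generalize Nat.gcd (q - 1) (q ^ 2 + q + 1) = G at h1 h2 ⊢
    rw [hN3] at h2
    exact (Nat.dvd_add_right (Dvd.dvd.mul_left h1 _)).1 h2
  rw [← hα, orderOf_dvd_iff_pow_eq_one]
  refine Units.ext ?_
  rw [Units.val_pow_eq_pow_val, Units.val_one, ← hA, mul_comm, pow_mul, hj, ← map_pow]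
  have hz0 : z ≠ 0 := fun h0 => pow_ne_zero j hA0 (by rw [hj, h0, map_zero])
  rw [FiniteField.pow_card_sub_one_eq_one z hz0, map_one]

end Cfsg.Agent.PSLThreeSpectrum
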