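import Mathlib

/-!
Element orders of the three-dimensional projective special linear groups: the upper bound, from the eigenvalues.
-/

set_option autoImplicit false

namespace Cfsg.Agent.PSLThreeSpectrum

open Polynomial Matrix

variable {F : Type*} [Field F] [Fintype F]

/-- The matrix of an element. -/
abbrev mat (g : Matrix.SpecialLinearGroup (Fin 3) F) : Matrix (Fin 3) (Fin 3) F :=
  (g : Matrix (Fin 3) (Fin 3) F)

/-- The class of an element. -/
abbrev cls (g : Matrix.SpecialLinearGroup (Fin 3) F) : Matrix.ProjectiveSpecialLinearGroup (Fin 3) F :=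
  QuotientGroup.mk' (Subgroup.center (Matrix.SpecialLinearGroup (Fin 3) F)) g

omit [Fintype F] in
theorem mat_pow (g : Matrix.SpecialLinearGroup (Fin 3) F) (k : ℕ) : mat (g ^ k) = mat g ^ k := by simp [mat]

omit [Fintype F] in
theorem cls_eq_one_iff (g : Matrix.SpecialLinearGroup (Fin 3) F) :
    cls g = 1 ↔ ∃ c : F, mat g = Matrix.scalar (Fin 3) c := by
  rw [cls, QuotientGroup.mk'_apply, QuotientGroup.eq_one_iff, Matrix.SpecialLinearGroup.mem_center_iff]
  constructor
  · rintro ⟨r, -, h⟩
    exact ⟨r, h.symm⟩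
  · rintro ⟨c, h⟩
    refine ⟨c, ?_, h.symm⟩
    have := g.det_coe
    rw [show (g : Matrix (Fin 3) (Fin 3) F) = mat g from rfl, h] at this
    simpa using this

omit [Fintype F] in
theorem orderOf_cls_dvd (g : Matrix.SpecialLinearGroup (Fin 3) F) {k : ℕ} (c : F)
    (h : mat g ^ k = Matrix.scalar (Fin 3) c) : orderOf (cls g) ∣ k := by
  rw [orderOf_dvd_iff_pow_eq_one, ← map_pow, cls_eq_one_iff]
  exact ⟨c, by rw [mat_pow, h]⟩

/-- The eigenvalues in an algebraic closure. -/
theorem eigen (g : Matrix.SpecialLinearGroup (Fin 3) F) :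
    ∃ a b c : AlgebraicClosure F, ((mat g).charpoly.map (algebraMap F (AlgebraicClosure F))) =
        (X - C a) * (X - C b) * (X - C c) ∧ a * b * c = 1 ∧
      ∀ x, (x = a ∨ x = b ∨ x = c) → (x ^ Fintype.card F = a ∨ x ^ Fintype.card F = b ∨ x ^ Fintype.card F = c) := by
  classical
  obtain ⟨p, hp⟩ := CharP.exists F
  obtain ⟨k, hpr, hk⟩ := FiniteField.card F p
  have : Fact p.Prime := ⟨hpr⟩
  set K := AlgebraicClosure F
  haveI : CharP K p := charP_of_injective_algebraMap (algebraMap F K).injective p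
  set ι := algebraMap F K
  set φ := iterateFrobenius K p k
  have hφ : ∀ x : K, φ x = x ^ Fintype.card F := fun x => by rw [iterateFrobenius_def, hk]
  have hcomp : φ.comp ι = ι := RingHom.ext fun x => by simp [hφ, ← map_pow, FiniteField.pow_card]
  set M := (mat g).map ι with hM
  have hdet : M.det = 1 := by
    have := RingHom.map_det ι (mat g)
    rw [RingHom.mapMatrix_apply] at this
    rw [hM, ← this]
    simp [mat]
  have hcp : (mat g).charpoly.map ι = M.charpoly := (Matrix.charpoly_map _ ι).symm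
  have hs : M.charpoly.Splits := IsAlgClosed.splits _
  have hcard : Multiset.card M.charpoly.roots = 3 := by
    rw [← hs.natDegree_eq_card_roots, Matrix.charpoly_natDegree_eq_dim, Fintype.card_fin]
  obtain ⟨a, b, c, habc⟩ := Multiset.card_eq_three.1 hcard
  refine ⟨a, b, c, ?_, ?_, ?_⟩
  · rw [hcp, hs.eq_prod_roots_of_monic (Matrix.charpoly_monic M), habc]
    simp [mul_assoc]
  · have := Matrix.det_eq_prod_roots_charpoly M
    rw [hdet, habc] at this
    simpa [mul_assoc] using this.symm
  · have hmem : ∀ x, (x = a ∨ x = b ∨ x = c) ↔ ((mat g).charpoly.map ι).eval x = 0 := fun x => by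
      rw [hcp]
      have : x ∈ M.charpoly.roots ↔ (x = a ∨ x = b ∨ x = c) := by simp [habc]
      rw [← this, Polynomial.mem_roots (Matrix.charpoly_monic M).ne_zero, IsRoot.def]
    intro x hx
    rw [hmem] at hx
    rw [hmem]
    have h := congrArg φ hx
    rw [map_zero, Polynomial.eval_map, Polynomial.hom_eval₂, hcomp, hφ, ← Polynomial.eval_map] at h
    exact h

/-- Elements of the closure fixed by the Frobenius of `F` lie in `F`. -/
theorem mem_range_of_pow_card {K : Type*} [Field K] [Algebra F K] {x : K} (hx : x ^ Fintype.card F = x) :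
    ∃ y : F, algebraMap F K y = x := by
  classical
  by_contra hc
  push Not at hc
  set P : K[X] := X ^ Fintype.card F - X
  have hP : P ≠ 0 := FiniteField.X_pow_card_sub_X_ne_zero K Fintype.one_lt_card
  have hsub : insert x (Finset.univ.image (algebraMap F K)) ⊆ P.roots.toFinset := by
    intro y hy
    rw [Multiset.mem_toFinset, Polynomial.mem_roots hP]
    rcases Finset.mem_insert.1 hy with rfl | hy
    · simp [P, hx]
    · obtain ⟨z, -, rfl⟩ := Finset.mem_image.1 hy
      simp [P, ← map_pow, FiniteField.pow_card]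
  have h1 := (Finset.card_le_card hsub).trans (Multiset.toFinset_card_le _)
  rw [Finset.card_insert_of_notMem (by simpa using hc), Finset.card_image_of_injective _ (algebraMap F K).injective,
    Finset.card_univ] at h1
  have := h1.trans (Polynomial.card_roots' P)
  rw [FiniteField.X_pow_card_sub_X_natDegree_eq K Fintype.one_lt_card] at this
  omega

omit [Fintype F] in
theorem pow_sub_scalar (g : Matrix.SpecialLinearGroup (Fin 3) F) (k : ℕ) (z : F) :
    aeval (mat g) (X ^ k - C z : F[X]) = mat g ^ k - Matrix.scalar (Fin 3) z := by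
  simp [Matrix.algebraMap_eq_diagonal, Matrix.scalar_apply]

/-- Distinct eigenvalues with a common power give a scalar power. -/
theorem order_dvd_of_distinct (g : Matrix.SpecialLinearGroup (Fin 3) F) {a b c : AlgebraicClosure F}
    (hP : (mat g).charpoly.map (algebraMap F (AlgebraicClosure F)) = (X - C a) * (X - C b) * (X - C c))
    (hab : a ≠ b) (hac : a ≠ c) (hbc : b ≠ c) {k : ℕ} (hk : k ≠ 0) (z : AlgebraicClosure F)
    (hz : z ^ Fintype.card F = z) (ha : a ^ k = z) (hb : b ^ k = z) (hc : c ^ k = z) : orderOf (cls g) ∣ k := by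
  obtain ⟨w, hw⟩ := mem_range_of_pow_card hz
  have hne : (X ^ k - C z : (AlgebraicClosure F)[X]) ≠ 0 := X_pow_sub_C_ne_zero (Nat.pos_of_ne_zero hk) z
  have hdvd : (mat g).charpoly ∣ X ^ k - C w := by
    refine (Polynomial.map_dvd_map' (algebraMap F (AlgebraicClosure F))).1 ?_
    rw [hP, Polynomial.map_sub, Polynomial.map_pow, map_X, map_C, hw]
    have := (Multiset.prod_X_sub_C_dvd_iff_le_roots hne {a, b, c}).2 ((Multiset.le_iff_subset (by simp [hab, hac, hbc])).2
      (fun x hx => by
        simp only [Multiset.insert_eq_cons, Multiset.mem_cons, Multiset.mem_singleton] at hx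
        rw [Polynomial.mem_roots hne]
        rcases hx with rfl | rfl | rfl <;> simp [*]))
    simpa [mul_assoc] using this
  have h0 := aeval_eq_zero_of_dvd_aeval_eq_zero hdvd (Matrix.aeval_self_charpoly (mat g))
  rw [pow_sub_scalar, sub_eq_zero] at h0
  exact orderOf_cls_dvd g w h0

/-- A power of the polynomial vanishing on the matrix gives a scalar power. -/
theorem order_dvd_of_pow (p : ℕ) [Fact p.Prime] [CharP F p] (g : Matrix.SpecialLinearGroup (Fin 3) F) {k n r : ℕ}
    {w : F} (hdvd : (mat g).charpoly ∣ (X ^ k - C w) ^ n) (hr : n ≤ p ^ r) : orderOf (cls g) ∣ p ^ r * k := by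
  have h0 := aeval_eq_zero_of_dvd_aeval_eq_zero hdvd (Matrix.aeval_self_charpoly (mat g))
  rw [map_pow, pow_sub_scalar] at h0
  have h1 := pow_eq_zero_of_le hr h0
  rw [sub_pow_char_pow_of_commute p r (Commute.symm (Matrix.scalar_commute w (fun s => Commute.all w s) _)),
    sub_eq_zero, ← map_pow, ← pow_mul, mul_comm] at h1
  exact orderOf_cls_dvd g (w ^ p ^ r) h1

section Cases

variable {K : Type*} [Field K] {q : ℕ}

theorem cube_root {z : K} {d : ℕ} (hq : 1 ≤ q) (hd : d ∣ 3) (hd' : d ∣ q - 1) (hz : z ^ d = 1) :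
    z ^ 3 = 1 ∧ z ^ q = z := by
  obtain ⟨r, hr⟩ := hd
  obtain ⟨s, hs⟩ := hd'
  refine ⟨by rw [hr, pow_mul, hz, one_pow], ?_⟩
  conv_lhs => rw [show q = q - 1 + 1 by omega]
  rw [pow_succ, hs, pow_mul, hz, one_pow, one_mul]

/-- A two-cycle of eigenvalues. -/
theorem two_cycle {a b c : K} {d k : ℕ} (hq : 1 ≤ q) (hd : d ∣ 3) (hd' : d ∣ q - 1) (hk : k * d = q ^ 2 - 1)
    (hb : b ^ q = c) (hc : c ^ q = b) (habc : a * b * c = 1) :
    (b ^ k) ^ q = b ^ k ∧ a ^ k = b ^ k ∧ c ^ k = b ^ k := by
  have hb0 : b ≠ 0 := right_ne_zero_of_mul (left_ne_zero_of_mul (habc ▸ one_ne_zero))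
  have hbq : b ^ (q ^ 2 - 1) = 1 := by
    refine mul_left_cancel₀ hb0 ?_
    rw [mul_one, ← pow_succ', Nat.sub_add_cancel (Nat.one_le_pow _ _ hq), pow_two, pow_mul, hb, hc]
  have hz : (b ^ k) ^ d = 1 := by rw [← pow_mul, hk, hbq]
  obtain ⟨hz3, hz1⟩ := cube_root hq hd hd' hz
  have hck : c ^ k = b ^ k := by rw [← hb, ← pow_mul, mul_comm, pow_mul, hz1]
  refine ⟨hz1, ?_, hck⟩
  have := congrArg (fun x => x ^ k) habc
  simp only [mul_pow, one_pow, hck] at this
  rw [pow_three] at hz3
  refine mul_right_cancel₀ (mul_ne_zero (pow_ne_zero k hb0) (pow_ne_zero k hb0)) ?_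
  rw [hz3, ← mul_assoc]
  exact this

/-- A three-cycle of eigenvalues. -/
theorem three_cycle {a b c : K} {d k : ℕ} (hq : 1 ≤ q) (hd : d ∣ 3) (hd' : d ∣ q - 1) (hk : k * d = q ^ 2 + q + 1)
    (ha : a ^ q = b) (hb : b ^ q = c) (habc : a * b * c = 1) :
    (a ^ k) ^ q = a ^ k ∧ b ^ k = a ^ k ∧ c ^ k = a ^ k := by
  have hord : a ^ (q ^ 2 + q + 1) = 1 := by
    rw [← habc, ← hb, ← ha, ← pow_mul, ← pow_succ', ← pow_add, pow_two]
    congr 1
    ring
  have hz : (a ^ k) ^ d = 1 := by rw [← pow_mul, hk, hord]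
  obtain ⟨-, hz1⟩ := cube_root hq hd hd' hz
  have hbk : b ^ k = a ^ k := by rw [← ha, ← pow_mul, mul_comm, pow_mul, hz1]
  refine ⟨hz1, hbk, ?_⟩
  rw [← hb, ← pow_mul, mul_comm, pow_mul, hbk, hz1]

/-- A repeated eigenvalue. -/
theorem repeated {a c : K} {d k : ℕ} (hq : 1 ≤ q) (hd : d ∣ 3) (hd' : d ∣ q - 1) (hk : k * d = q - 1)
    (ha : a ^ q = a) (habc : a * a * c = 1) : (a ^ k) ^ q = a ^ k ∧ c ^ k = a ^ k := by
  have ha0 : a ≠ 0 := left_ne_zero_of_mul (left_ne_zero_of_mul (habc ▸ one_ne_zero))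
  have hq1 : a ^ (q - 1) = 1 := mul_left_cancel₀ ha0 (by rw [← pow_succ', Nat.sub_add_cancel hq, ha, mul_one])
  have hz : (a ^ k) ^ d = 1 := by rw [← pow_mul, hk, hq1]
  obtain ⟨hz3, hz1⟩ := cube_root hq hd hd' hz
  refine ⟨hz1, ?_⟩
  have := congrArg (fun x => x ^ k) habc
  simp only [mul_pow, one_pow] at this
  rw [pow_three, ← mul_assoc] at hz3
  exact mul_left_cancel₀ (mul_ne_zero (pow_ne_zero k ha0) (pow_ne_zero k ha0)) (this.trans hz3.symm)

end Cases

/-- The upper bound on orders. -/
theorem order_mem (p : ℕ) [Fact p.Prime] [CharP F p] (x : Matrix.ProjectiveSpecialLinearGroup (Fin 3) F) :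
    orderOf x ∣ (Fintype.card F ^ 2 + Fintype.card F + 1) / Nat.gcd 3 (Fintype.card F - 1) ∨
      orderOf x ∣ (Fintype.card F ^ 2 - 1) / Nat.gcd 3 (Fintype.card F - 1) ∨ orderOf x ∣ Fintype.card F - 1 ∨
      orderOf x ∣ p * (Fintype.card F - 1) / Nat.gcd 3 (Fintype.card F - 1) ∨ (p = 2 ∧ orderOf x ∣ 4) := by
  obtain ⟨g, rfl⟩ := QuotientGroup.mk'_surjective (Subgroup.center (Matrix.SpecialLinearGroup (Fin 3) F)) x
  change orderOf (cls g) ∣ _ ∨ orderOf (cls g) ∣ _ ∨ orderOf (cls g) ∣ _ ∨ orderOf (cls g) ∣ _ ∨ _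
  obtain ⟨a, b, c, hP, habc, hper⟩ := eigen g
  obtain ⟨e, hpr, hcard⟩ := FiniteField.card F p
  set q := Fintype.card F with hqdef
  have hq2 : 2 ≤ q := Fintype.one_lt_card
  have hq1 : 1 ≤ q := by omega
  set d := Nat.gcd 3 (q - 1) with hd
  have hd3 : d ∣ 3 := Nat.gcd_dvd_left _ _
  have hdq : d ∣ q - 1 := Nat.gcd_dvd_right _ _
  have hd0 : 0 < d := Nat.gcd_pos_of_pos_left _ (by norm_num)
  have hdm : d ∣ q ^ 2 - 1 := hdq.trans ⟨q + 1, by rw [mul_comm]; simpa using Nat.sq_sub_sq q 1⟩
  have hds : d ∣ q ^ 2 + q + 1 := by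
    obtain ⟨r, hr⟩ : ∃ r, q = r + 1 := ⟨q - 1, by omega⟩
    have e' : q ^ 2 + q + 1 = (q - 1) * (q + 2) + 3 := by rw [hr, Nat.add_sub_cancel]; ring
    rw [e']; exact dvd_add (dvd_mul_of_dvd_left hdq _) hd3
  have hk1 : (q - 1) / d * d = q - 1 := Nat.div_mul_cancel hdq
  have hk2 : (q ^ 2 - 1) / d * d = q ^ 2 - 1 := Nat.div_mul_cancel hdm
  have hk3 : (q ^ 2 + q + 1) / d * d = q ^ 2 + q + 1 := Nat.div_mul_cancel hds
  have hk2' : (q ^ 2 - 1) / d ≠ 0 := fun h => by
    rw [h, zero_mul] at hk2
    have : 2 ^ 2 ≤ q ^ 2 := Nat.pow_le_pow_left hq2 2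
    omega
  have hk3' : (q ^ 2 + q + 1) / d ≠ 0 := fun h => by rw [h, zero_mul] at hk3; omega
  have hp1 : p * ((q - 1) / d) = p * (q - 1) / d := (Nat.mul_div_assoc p hdq).symm
  have hinj : ∀ x y : AlgebraicClosure F, x ^ q = y ^ q → x = y := by
    haveI : CharP (AlgebraicClosure F) p := charP_of_injective_algebraMap (algebraMap F _).injective p
    intro x y h
    rw [hcard, ← iterateFrobenius_def, ← iterateFrobenius_def] at h
    exact (iterateFrobenius (AlgebraicClosure F) p e).injective h
  by_cases hdist : a ≠ b ∧ a ≠ c ∧ b ≠ c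
  · obtain ⟨hab, hac, hbc⟩ := hdist
    have hone : ∀ x : AlgebraicClosure F, (x = a ∨ x = b ∨ x = c) → x ^ q = x → x ^ (q - 1) = 1 := fun x hx h => by
      have hx0 : x ≠ 0 := by
        rintro rfl
        rcases hx with rfl | rfl | rfl <;> simp at habc
      exact mul_left_cancel₀ hx0 (by rw [← pow_succ', Nat.sub_add_cancel hq1, h, mul_one])
    rcases hper a (Or.inl rfl) with ea | ea | ea <;> rcases hper b (Or.inr (Or.inl rfl)) with eb | eb | eb <;>
      rcases hper c (Or.inr (Or.inr rfl)) with ec | ec | ec <;>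
      first
        | exact absurd (hinj _ _ (ea.trans eb.symm)) hab
        | exact absurd (hinj _ _ (ea.trans ec.symm)) hac
        | exact absurd (hinj _ _ (eb.trans ec.symm)) hbc
        | exact Or.inr (Or.inr (Or.inl (order_dvd_of_distinct g hP hab hac hbc (by omega) 1 (one_pow _)
            (hone _ (Or.inl rfl) ea) (hone _ (Or.inr (Or.inl rfl)) eb) (hone _ (Or.inr (Or.inr rfl)) ec))))
        | (have hu0 : b ^ q = c := by assumption
           have hu1 : c ^ q = b := by assumption
           obtain ⟨h1, h2, h3⟩ := two_cycle (a := a) hq1 hd3 hdq hk2 hu0 hu1 habc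
           exact Or.inr (Or.inl (order_dvd_of_distinct g hP hab hac hbc hk2' _ h1 h2 rfl h3)))
        | (have hu0 : a ^ q = c := by assumption
           have hu1 : c ^ q = a := by assumption
           obtain ⟨h1, h2, h3⟩ := two_cycle (a := b) hq1 hd3 hdq hk2 hu0 hu1 (by linear_combination habc)
           exact Or.inr (Or.inl (order_dvd_of_distinct g hP hab hac hbc hk2' _ h1 rfl h2 h3)))
        | (have hu0 : a ^ q = b := by assumption
           have hu1 : b ^ q = a := by assumption
           obtain ⟨h1, h2, h3⟩ := two_cycle (a := c) hq1 hd3 hdq hk2 hu0 hu1 (by linear_combination habc)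
           exact Or.inr (Or.inl (order_dvd_of_distinct g hP hab hac hbc hk2' _ h1 rfl h3 h2)))
        | (have hu0 : a ^ q = b := by assumption
           have hu1 : b ^ q = c := by assumption
           obtain ⟨h1, h2, h3⟩ := three_cycle hq1 hd3 hdq hk3 hu0 hu1 habc
           exact Or.inl (order_dvd_of_distinct g hP hab hac hbc hk3' _ h1 rfl h2 h3))
        | (have hu0 : a ^ q = c := by assumption
           have hu1 : c ^ q = b := by assumption
           obtain ⟨h1, h2, h3⟩ := three_cycle hq1 hd3 hdq hk3 hu0 hu1 (by linear_combination habc)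
           exact Or.inl (order_dvd_of_distinct g hP hab hac hbc hk3' _ h1 rfl h3 h2))
  · refine Or.inr (Or.inr (Or.inr ?_))
    have main : ∀ u w : AlgebraicClosure F, u * u * w = 1 →
        (mat g).charpoly.map (algebraMap F (AlgebraicClosure F)) = (X - C u) * (X - C u) * (X - C w) →
        (∀ x, (x = u ∨ x = w) → (x ^ q = u ∨ x ^ q = w)) →
        orderOf (cls g) ∣ p * ((q - 1) / d) ∨ (p = 2 ∧ orderOf (cls g) ∣ 4) := by
      intro u w huw hPu hu
      have hu0 : u ≠ 0 := left_ne_zero_of_mul (left_ne_zero_of_mul (huw ▸ one_ne_zero))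
      have huq : u ^ q = u := by
        rcases hu u (Or.inl rfl) with h | h
        · exact h
        rcases hu w (Or.inr rfl) with h' | h'
        · have e1 := congrArg (fun x => x ^ q) huw
          simp only [mul_pow, one_pow, h, h'] at e1
          have hw0 : w ≠ 0 := right_ne_zero_of_mul (huw ▸ one_ne_zero)
          have : w = u := mul_right_cancel₀ (mul_ne_zero hw0 hu0) (by linear_combination e1 - huw)
          rw [h, this]
        · rw [h, hinj u w (h.trans h'.symm)]
      obtain ⟨hz1, hwk⟩ := repeated hq1 hd3 hdq hk1 huq huw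
      set k := (q - 1) / d
      obtain ⟨z, hz⟩ := mem_range_of_pow_card (F := F) hz1
      have hlin : ∀ x, x ^ k = u ^ k → X - C x ∣ (X ^ k - C (u ^ k) : (AlgebraicClosure F)[X]) := fun x hx =>
        dvd_iff_isRoot.2 (by simp [hx])
      by_cases hp3 : 3 ≤ p
      · left
        have := order_dvd_of_pow (r := 1) (n := 3) (k := k) (w := z) p g (by
          refine (Polynomial.map_dvd_map' (algebraMap F (AlgebraicClosure F))).1 ?_
          rw [hPu, Polynomial.map_pow, Polynomial.map_sub, Polynomial.map_pow, map_X, map_C, hz, pow_three, ← mul_assoc]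
          exact mul_dvd_mul (mul_dvd_mul (hlin u rfl) (hlin u rfl)) (hlin w hwk)) (by rwa [pow_one])
        rwa [pow_one] at this
      have hp2 : p = 2 := by
        have := (Fact.out : p.Prime).two_le
        omega
      by_cases hne : u = w
      · right
        refine ⟨hp2, ?_⟩
        subst hne
        obtain ⟨y, hy⟩ := mem_range_of_pow_card (F := F) huq
        have := order_dvd_of_pow (r := 2) (n := 3) (k := 1) (w := y) p g (by
          refine (Polynomial.map_dvd_map' (algebraMap F (AlgebraicClosure F))).1 ?_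
          rw [hPu, Polynomial.map_pow, Polynomial.map_sub, Polynomial.map_pow, map_X, map_C, hy, pow_one, pow_three,
            ← mul_assoc]) (by subst hp2; norm_num)
        subst hp2
        simpa using this
      · left
        have := order_dvd_of_pow (r := 1) (n := 2) (k := k) (w := z) p g (by
          refine (Polynomial.map_dvd_map' (algebraMap F (AlgebraicClosure F))).1 ?_
          rw [hPu, Polynomial.map_pow, Polynomial.map_sub, Polynomial.map_pow, map_X, map_C, hz, sq, mul_assoc]
          refine mul_dvd_mul (hlin u rfl) ?_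
          exact (Polynomial.isCoprime_X_sub_C_of_isUnit_sub (sub_ne_zero.2 hne).isUnit).mul_dvd (hlin u rfl)
            (hlin w hwk)) (by rw [pow_one]; omega)
        rwa [pow_one] at this
    rw [← hp1]
    by_cases hab : a = b
    · subst hab
      exact main a c habc hP fun x hx => by have := hper x (by tauto); tauto
    by_cases hac : a = c
    · subst hac
      exact main a b (by linear_combination habc) (by rw [hP]; ring) fun x hx => by
        have := hper x (by tauto); tauto
    have hbc : b = c := by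
      by_contra hbc
      exact hdist ⟨hab, hac, hbc⟩
    subst hbc
    exact main b a (by linear_combination habc) (by rw [hP]; ring) fun x hx => by
      have := hper x (by tauto); tauto

end Cfsg.Agent.PSLThreeSpectrum
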